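import Groth.Agent.NumTriv.Family
import Groth.Agent.S5342

/-!
# The modules algebraically equivalent to zero form a group
-/

universe u

open CategoryTheory CategoryTheory.Limits AlgebraicGeometry TopologicalSpace

set_option linter.style.haveILetI false

noncomputable section

namespace Groth.Agent.PicAlg

open ProjTwist

variable {k : Type u} [Field k] {X : Scheme.{u}} [X.Over (Spec (CommRingCat.of k))]

theorem slice_map {T T' : Scheme.{u}} {q : T ⟶ Spec (CommRingCat.of k)}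
    {q' : T' ⟶ Spec (CommRingCat.of k)} (h : T ⟶ T') (hh : h ≫ q' = q)
    (s : Spec (CommRingCat.of k) ⟶ T) (hs : s ≫ q = 𝟙 _) (r : Spec (CommRingCat.of k) ⟶ T')
    (hr : r ≫ q' = 𝟙 _) (hsr : s ≫ h = r) :
    Pic13.sliceAt k X q s hs ≫
        pullback.map (X ↘ Spec (CommRingCat.of k)) q (X ↘ Spec (CommRingCat.of k)) q' (𝟙 X) h
          (𝟙 _) (by simp) (by simp [hh]) = Pic13.sliceAt k X q' r hr := by
  refine pullback.hom_ext ?_ ?_
  · simp only [Pic13.sliceAt, pullback.map, Category.assoc]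
    erw [pullback.lift_fst, pullback.lift_fst, pullback.lift_fst]
  · simp only [Pic13.sliceAt, pullback.map, Category.assoc]
    erw [pullback.lift_snd, pullback.lift_snd, pullback.lift_snd_assoc]
    rw [Category.assoc, hsr]

theorem isAlgEquivZero_one : Pic13.IsAlgEquivZero k X (Coh.structureModule X) := by
  refine ⟨Spec (CommRingCat.of k), 𝟙 _, inferInstance, inferInstance, inferInstance,
    Coh.structureModule _, LFFrame.isInvertible_structureModule _, 𝟙 _, 𝟙 _, Category.id_comp _,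
    Category.id_comp _, ⟨QCoh.pullbackUnitIso _⟩, ⟨QCoh.pullbackUnitIso _⟩⟩

theorem isAlgEquivZero_tens {L L' : X.Modules} (h : Pic13.IsAlgEquivZero k X L)
    (h' : Pic13.IsAlgEquivZero k X L') : Pic13.IsAlgEquivZero k X (CohB1.tensorMod L L') := by
  obtain ⟨T, q, hT, hft, hqc, M, hM, t, t₀, ht, ht₀, ⟨e⟩, ⟨e₀⟩⟩ := h
  obtain ⟨T', q', hT', hft', hqc', M', hM', t', t₀', ht', ht₀', ⟨e'⟩, ⟨e₀'⟩⟩ := h'
  haveI := hT; haveI := hT'; haveI := hft; haveI := hft'; haveI := hqc; haveI := hqc'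
  haveI : ConnectedSpace ↥(pullback q q') := S5342.result k T T' q q' t ht
  let Q : pullback q q' ⟶ Spec (CommRingCat.of k) := pullback.fst q q' ≫ q
  have hQ : pullback.snd q q' ≫ q' = Q := pullback.condition.symm
  let P := pullback.map (X ↘ Spec (CommRingCat.of k)) Q (X ↘ Spec (CommRingCat.of k)) q (𝟙 X)
    (pullback.fst q q') (𝟙 _) (by simp) (by simp [Q])
  let P' := pullback.map (X ↘ Spec (CommRingCat.of k)) Q (X ↘ Spec (CommRingCat.of k)) q' (𝟙 X)
    (pullback.snd q q') (𝟙 _) (by simp) (by simp [hQ])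
  let s : ∀ (a : Spec (CommRingCat.of k) ⟶ T) (b : Spec (CommRingCat.of k) ⟶ T'),
      a ≫ q = 𝟙 _ → b ≫ q' = 𝟙 _ → (Spec (CommRingCat.of k) ⟶ pullback q q') :=
    fun a b ha hb => pullback.lift a b (ha.trans hb.symm)
  have hs : ∀ a b ha hb, s a b ha hb ≫ Q = 𝟙 _ := fun a b ha hb => by
    simp only [s, Q, pullback.lift_fst_assoc]
    exact ha
  have key : ∀ a b (ha : a ≫ q = 𝟙 _) (hb : b ≫ q' = 𝟙 _),
      Nonempty (Pic13.fibreMod k X Q (s a b ha hb) (hs a b ha hb)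
        (CohB1.tensorMod ((Scheme.Modules.pullback P).obj M) ((Scheme.Modules.pullback P').obj M')) ≅
        CohB1.tensorMod (Pic13.fibreMod k X q a ha M) (Pic13.fibreMod k X q' b hb M')) := by
    intro a b ha hb
    obtain ⟨φ⟩ := PicLaw.pullback_tensor (Pic13.sliceAt k X Q (s a b ha hb) (hs a b ha hb))
      (PicCl.isInvertible_pullback P hM) (PicCl.isInvertible_pullback P' hM')
    exact ⟨φ ≪≫ tensCongr
      ((Scheme.Modules.pullbackComp _ _).app M ≪≫ (Scheme.Modules.pullbackCongr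
        (slice_map (pullback.fst q q') rfl _ _ a ha (pullback.lift_fst _ _ _))).app M)
      ((Scheme.Modules.pullbackComp _ _).app M' ≪≫ (Scheme.Modules.pullbackCongr
        (slice_map (pullback.snd q q') hQ _ _ b hb (pullback.lift_snd _ _ _))).app M')⟩
  obtain ⟨φ⟩ := key t t' ht ht'
  obtain ⟨φ₀⟩ := key t₀ t₀' ht₀ ht₀'
  exact ⟨pullback q q', Q, ‹_›, inferInstance, inferInstance,
    CohB1.tensorMod ((Scheme.Modules.pullback P).obj M) ((Scheme.Modules.pullback P').obj M'),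
    AmpleLib.isInvertible_tensorMod (PicCl.isInvertible_pullback P hM)
      (PicCl.isInvertible_pullback P' hM'),
    s t t' ht ht', s t₀ t₀' ht₀ ht₀', hs t t' ht ht', hs t₀ t₀' ht₀ ht₀',
    ⟨φ ≪≫ tensCongr e e'⟩, ⟨φ₀ ≪≫ tensCongr e₀ e₀' ≪≫ tensOne _⟩⟩

theorem isAlgEquivZero_inverse {L L' : X.Modules} (h : Pic13.IsAlgEquivZero k X L)
    (hL : PicF.IsInvertible L) (f : CohB1.tensorMod L L' ≅ Coh.structureModule X) :
    Pic13.IsAlgEquivZero k X L' := by
  obtain ⟨T, q, hT, hft, hqc, M, hM, t, t₀, ht, ht₀, ⟨e⟩, ⟨e₀⟩⟩ := h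
  obtain ⟨M', hM', ⟨g⟩⟩ := PicLaw.exists_inverse hM
  have key : ∀ a (ha : a ≫ q = 𝟙 _), Nonempty (CohB1.tensorMod (Pic13.fibreMod k X q a ha M)
      (Pic13.fibreMod k X q a ha M') ≅ Coh.structureModule X) := fun a ha => by
    obtain ⟨φ⟩ := PicLaw.pullback_tensor (Pic13.sliceAt k X q a ha) hM hM'
    exact ⟨φ.symm ≪≫ (Scheme.Modules.pullback _).mapIso g ≪≫ QCoh.pullbackUnitIso _⟩
  obtain ⟨φ⟩ := key t ht
  obtain ⟨φ₀⟩ := key t₀ ht₀
  obtain ⟨ψ⟩ := NumTriv.nonempty_cancel hL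
    ((tensCongr e.symm (Iso.refl _)) ≪≫ φ ≪≫ f.symm)
  exact ⟨T, q, hT, hft, hqc, M', hM', t, t₀, ht, ht₀, ⟨ψ⟩,
    ⟨(tensOne _).symm ≪≫ tensComm _ _ ≪≫ tensCongr e₀.symm (Iso.refl _) ≪≫ φ₀⟩⟩

end Groth.Agent.PicAlg
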