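import Groth.Agent.PicAlg.SectionDim
import Groth.Agent.CycLib.DevSigma

/-!
# A curve through a closed point outside the zero locus of a section
-/

universe u

open CategoryTheory CategoryTheory.Limits AlgebraicGeometry TopologicalSpace

set_option linter.style.haveILetI false

noncomputable section

namespace Groth.Agent.PicAlg

open Groth.Agent.QCoh Groth.Agent.Props.GenLocus Groth.Agent.PullStalk.Sky Groth.Agent.VarDim

attribute [local instance] Curv2.resAlgebra Groth.Agent.VarDim.secAlgebra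

variable (k : Type u) [Field k] {X : Scheme.{u}} [X.Over (Spec (CommRingCat.of k))]
  [LocallyOfFiniteType (X ↘ Spec (CommRingCat.of k))]

omit [LocallyOfFiniteType (X ↘ Spec (CommRingCat.of k))] in
theorem compl_genLocus_subset_support {L : X.Modules} (hL : PicF.IsInvertible L)
    (s : Coh.structureModule X ⟶ L) :
    ((CohB1.genLocus L s : Set X)ᶜ) ⊆ CohB1.support (cokernel s) := fun y hy hsub => by
  obtain ⟨eM⟩ := EulerChar.stalk_ofRank (ProjTwist.isFinLocFreeOfRank_one hL) y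
  haveI : Module.Finite (X.presheaf.stalk y) (L.presheaf.stalk y) := Module.Finite.equiv eM
  have htop : IsLocalRing.maximalIdeal (X.presheaf.stalk y) •
      (⊤ : Submodule (X.presheaf.stalk y) (L.presheaf.stalk y)) = ⊤ :=
    eq_top_iff.2 fun m _ => by
      obtain ⟨t, rfl⟩ := ((CycLib.Dev.stalk_exact_cokernel s y) m).mp
        (@Subsingleton.elim _ hsub _ _)
      exact HilbPolyX.stalk_sec_mem s hL hy t
  have hbot := Submodule.eq_bot_of_le_smul_of_le_jacobson_bot _ _ Module.Finite.fg_top htop.ge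
    (IsLocalRing.maximalIdeal_le_jacobson _)
  haveI : Subsingleton (L.presheaf.stalk y) :=
    (Submodule.subsingleton_iff _).1 (subsingleton_of_bot_eq_top hbot.symm)
  haveI : Subsingleton (Fin 1 → X.presheaf.stalk y) := eM.injective.subsingleton
  exact one_ne_zero (congrFun (Subsingleton.elim (1 : Fin 1 → X.presheaf.stalk y) 0) 0)

include k in
/-- Points of dimension one generalising `x` inside a given open. -/
theorem exists_dimPt_eq_one {O : X.Opens} {x : X} (hx : IsClosed ({x} : Set X))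
    (hxO : x ∉ O) {U : X.Opens} (hU : IsAffineOpen U) (hxU : x ∈ U) (f : Γ(X, U))
    (hOU : O ⊓ U = X.basicOpen f) {η : X} (hη : η ⤳ x) (hηO : η ∈ O) :
    ∃ y : X, y ⤳ x ∧ y ∈ O ∧ dimPt k X y = 1 := by
  classical
  have hex : ∃ n, ∃ y : X, y ⤳ x ∧ y ∈ O ∧ dimPt k X y = n := ⟨_, η, hη, hηO, rfl⟩
  obtain ⟨y, hyx, hyO, hyn⟩ := Nat.find_spec hex
  refine ⟨y, hyx, hyO, ?_⟩
  have hne : x ≠ y := fun h => hxO (h ▸ hyO)
  have hlt : x < y := lt_iff_le_not_ge.2 ⟨hyx, fun h => hne ((show x ⤳ y from h).antisymm hyx).eq⟩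
  have h1 : 1 ≤ dimPt k X y := by have := dimPt_lt_of_lt k hlt; omega
  by_contra hn
  haveI := finiteType_sections k hU
  have hyU : y ∈ U := hyx.mem_open U.2 hxU
  set Q := hU.primeIdealOf ⟨y, hyU⟩
  set P := hU.primeIdealOf ⟨x, hxU⟩
  have hQP : Q.asIdeal ≤ P.asIdeal := (primeIdealOf_le_iff hU y x hyU hxU).2 hyx
  haveI := finiteType_quotient k Γ(X, U) Q.asIdeal
  haveI : IsNoetherianRing (Γ(X, U) ⧸ Q.asIdeal) := Algebra.FiniteType.isNoetherianRing k _
  have hmem : ∀ z (hz : z ∈ U), z ∈ O ↔ f ∉ (hU.primeIdealOf ⟨z, hz⟩).asIdeal := fun z hz => by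
    rw [← evaluation_eq_zero_iff hU z hz]
    refine Iff.trans ?_ (X.evaluation_ne_zero_iff_mem_basicOpen z hz f).symm
    rw [← hOU]
    exact ⟨fun h => ⟨h, hz⟩, fun h => h.1⟩
  let π := Ideal.Quotient.mk Q.asIdeal
  let m := P.asIdeal.map π
  haveI : m.IsPrime :=
    Ideal.map_isPrime_of_surjective Ideal.Quotient.mk_surjective (by rwa [Ideal.mk_ker])
  have hmc : m.comap π = P.asIdeal := by
    rw [Ideal.comap_map_of_surjective _ Ideal.Quotient.mk_surjective, ← RingHom.ker_eq_comap_bot,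
      Ideal.mk_ker, sup_eq_left]
    exact hQP
  have hf0 : π f ≠ 0 := fun h => (hmem y hyU).1 hyO (Ideal.Quotient.eq_zero_iff_mem.1 h)
  have hfm : π f ∈ m := Ideal.mem_map_of_mem _ (not_not.1 fun h => hxO ((hmem x hxU).2 h))
  have hfin : (Ideal.span {π f}).minimalPrimes.Finite :=
    Ideal.finite_minimalPrimes_of_isNoetherianRing _ _
  have hht : 2 ≤ m.height := by
    obtain ⟨j, hj, hj'⟩ := trdeg_quotient_add_height k (Γ(X, U) ⧸ Q.asIdeal) m
    rw [trdeg_quotient_primeIdealOf k hU y hyU] at hj'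
    have e : Algebra.trdeg k ((Γ(X, U) ⧸ Q.asIdeal) ⧸ m) = dimPt k X x := by
      rw [trdeg_quotient_quotient k Γ(X, U) hQP, trdeg_quotient_primeIdealOf k hU x hxU]
    rw [e] at hj'
    have hj2 : dimPt k X x + j = dimPt k X y := by exact_mod_cast hj'
    have hx0 : dimPt k X x = 0 := by
      obtain ⟨z, hzx, -, hz⟩ := exists_le_dimPt_eq_zero k x ⊤ trivial
      have : z = x := Set.eq_of_mem_singleton ((show x ⤳ z from hzx).mem_closed hx rfl)
      rw [← this]; exact hz
    rw [hj]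
    exact_mod_cast (by omega : 2 ≤ j)
  obtain ⟨g, hgm, hg⟩ : ∃ g ∈ m, ∀ p ∈ hfin.toFinset, g ∉ p := by
    by_contra hh
    push Not at hh
    have hsub : (m : Set (Γ(X, U) ⧸ Q.asIdeal)) ⊆ ⋃ p ∈ (hfin.toFinset : Set (Ideal (Γ(X, U) ⧸ Q.asIdeal))), (p : Set _) :=
      fun a ha => by
        obtain ⟨q, hq, haq⟩ := hh a ha
        exact Set.mem_iUnion₂.2 ⟨q, hq, haq⟩
    obtain ⟨p, hp, hle⟩ := (Ideal.subset_union_prime ⊥ ⊥ (fun p hp _ _ =>
      (hfin.mem_toFinset.1 hp).1.1)).1 hsub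
    have hp' := hfin.mem_toFinset.1 hp
    haveI := hp'.1.1
    have := (Ideal.height_mono hle).trans
      (Ideal.height_le_one_of_isPrincipal_of_mem_minimalPrimes _ p hp')
    exact absurd (hht.trans this) (by norm_num)
  have hle : Ideal.span {g} ≤ m := by rwa [Ideal.span_le, Set.singleton_subset_iff]
  obtain ⟨p, hp, hpm⟩ := Ideal.exists_minimalPrimes_le hle
  haveI := hp.1.1
  have hg0 : g ≠ 0 := fun h => by
    obtain ⟨q, hq, -⟩ := Ideal.exists_minimalPrimes_le
      (show Ideal.span {π f} ≤ m by rwa [Ideal.span_le, Set.singleton_subset_iff])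
    exact hg q (hfin.mem_toFinset.2 hq) (h ▸ q.zero_mem)
  have hp1 := Ideal.height_le_one_of_isPrincipal_of_mem_minimalPrimes _ p hp
  have hfp : π f ∉ p := fun hfp => by
    obtain ⟨q, hq, hqp⟩ := Ideal.exists_minimalPrimes_le
      (show Ideal.span {π f} ≤ p by rwa [Ideal.span_le, Set.singleton_subset_iff])
    haveI := hq.1.1
    rcases hqp.eq_or_lt with h | h
    · exact hg q (hfin.mem_toFinset.2 hq) (h ▸ hp.1.2 (Ideal.subset_span rfl))
    · have h0 : (⊥ : Ideal (Γ(X, U) ⧸ Q.asIdeal)) < q := bot_lt_iff_ne_bot.2 fun e =>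
        hf0 (by simpa [e] using hq.1.2 (Ideal.subset_span rfl))
      haveI : p.FiniteHeight := Ideal.finiteHeight_of_isNoetherianRing _
      haveI : q.FiniteHeight := Ideal.finiteHeight_of_isNoetherianRing _
      have h2 := Ideal.height_strict_mono_of_isPrime h0
      have h3 := Ideal.height_strict_mono_of_isPrime h
      rw [Ideal.height_bot] at h2
      exact absurd ((Order.one_le_iff_pos.2 h2).trans_lt h3) (not_lt.2 hp1)
  let R : PrimeSpectrum Γ(X, U) := ⟨p.comap π, inferInstance⟩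
  obtain ⟨z, hz, hze⟩ := exists_eq_primeIdealOf hU R
  have hQR : Q.asIdeal ≤ R.asIdeal := fun a ha => by
    show π a ∈ p
    rw [Ideal.Quotient.eq_zero_iff_mem.2 ha]; exact zero_mem _
  have hzx : z ⤳ x := (primeIdealOf_le_iff hU z x hz hxU).1 (by
    rw [hze]
    show p.comap π ≤ P.asIdeal
    exact hmc ▸ Ideal.comap_mono hpm)
  have hzO : z ∈ O := (hmem z hz).2 (by rw [hze]; exact hfp)
  have hzy : z < y := by
    refine lt_iff_le_not_ge.2 ⟨(primeIdealOf_le_iff hU y z hyU hz).1 (by rw [hze]; exact hQR),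
      fun h => ?_⟩
    have h' := (primeIdealOf_le_iff hU z y hz hyU).2 h
    rw [hze] at h'
    obtain ⟨a, rfl⟩ := Ideal.Quotient.mk_surjective g
    exact hg0 (Ideal.Quotient.eq_zero_iff_mem.2
      (h' (show π a ∈ p from hp.1.2 (Ideal.subset_span rfl))))
  have hlt' := dimPt_lt_of_lt k hzy
  exact Nat.find_min hex (by rw [← hyn]; exact hlt') ⟨z, hzx, hzO, rfl⟩

end Groth.Agent.PicAlg
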