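import Groth.Agent.PicLaw.Basic
import Groth.Agent.IdealSh.IdealMod

/-!
# Pullback of the ideal of an effective Cartier divisor
-/

universe u

open CategoryTheory CategoryTheory.Limits AlgebraicGeometry TopologicalSpace

noncomputable section

namespace Groth.Agent.PicAlg

open Groth.Agent.QCoh Groth.Agent.Props.GenLocus Groth.Agent.Props.GenPull
open Groth.Agent.IdealSh Groth.Agent.Omega.Stalks
open OmegaSh (idealSect)

variable {X Y : Scheme.{u}}

/-- Compatible charts of a divisor and its inverse image. -/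
structure Chart (g : X ⟶ Y) (I : Y.IdealSheafData) where
  U : Y.affineOpens
  V : X.affineOpens
  le : V.1 ≤ g ⁻¹ᵁ U.1
  f : Γ(Y, U.1)
  e : Γ(ClSub.idealMod I, U.1)
  e' : Γ(ClSub.idealMod (I.comap g), V.1)
  he : IsGen (ClSub.idealMod I) U.1 e
  he' : IsGen (ClSub.idealMod (I.comap g)) V.1 e'
  hf : idealSect I U.1 e = f
  hf' : idealSect (I.comap g) V.1 e' = g.appLE U.1 V.1 le f

/-- Pulling back commutes with the ideal of a divisor whose inverse image is a divisor. -/
theorem nonempty_pullback_idealMod (g : X ⟶ Y) (I : Y.IdealSheafData)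
    (h : BlowUp.IsEffCartierIdeal I) (h' : BlowUp.IsEffCartierIdeal (I.comap g)) :
    Nonempty ((Scheme.Modules.pullback g).obj (ClSub.idealMod I) ≅ ClSub.idealMod (I.comap g)) := by
  refine PicLaw.nonempty_iso_of_transition (fun i : Chart g I => i.V.1) (fun x => ?_)
    (fun i => res _ i.le (pb g i.e)) (fun i => (isGen_pb g i.he).restrict _)
    (fun i => i.e') (fun i => i.he') ?_
  · obtain ⟨U, hxU, f, hf, hI⟩ := h (g x)
    obtain ⟨V, hxV, hV, f', hf', hI'⟩ := EffCartier.exists_equation h' x (g ⁻¹ᵁ U.1) hxU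
    have hspan := Comap.ideal_comap_span_singleton I g U V hV hI
    have hnz : g.appLE U.1 V.1 hV f ∈ nonZeroDivisors Γ(X, V.1) := by
      have hmem : f' ∈ Ideal.span {g.appLE U.1 V.1 hV f} := by
        rw [← hspan, hI']
        exact Ideal.mem_span_singleton_self _
      obtain ⟨c, hc⟩ := Ideal.mem_span_singleton'.1 hmem
      rw [← hc] at hf'
      exact (mul_mem_nonZeroDivisors.1 hf').2
    obtain ⟨e, he, hef⟩ := IdealMod.exists_isFrame_of_equation I hf hI
    obtain ⟨e', he', hef'⟩ := IdealMod.exists_isFrame_of_equation (I.comap g) hnz hspan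
    exact ⟨⟨U, V, hV, f, e 0, e' 0,
      (isGen_iff_isFrame _).2 (by rwa [show (fun _ : Fin 1 => e 0) = e from
        funext fun i => by rw [Subsingleton.elim i 0]]),
      (isGen_iff_isFrame _).2 (by rwa [show (fun _ : Fin 1 => e' 0) = e' from
        funext fun i => by rw [Subsingleton.elim i 0]]), hef, hef'⟩, hxV⟩
  intro i j W hi hj
  have hU₁ : i.U.1 ⊓ j.U.1 ≤ i.U.1 := inf_le_left
  have hU₂ : i.U.1 ⊓ j.U.1 ≤ j.U.1 := inf_le_right
  have hW : W ≤ g ⁻¹ᵁ (i.U.1 ⊓ j.U.1) := fun z hz => ⟨i.le (hi hz), j.le (hj hz)⟩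
  obtain ⟨c, hc, -⟩ := i.he.exists_eq hU₁ (res _ hU₂ j.e)
  refine ⟨g.appLE (i.U.1 ⊓ j.U.1) W hW c, ?_, ?_⟩
  · have h1 := congrArg (LFFrame.unitSec g (ClSub.idealMod I) (i.U.1 ⊓ j.U.1)) hc
    rw [LFFrame.unitSec_smul, LFFrame.unitSec_res, LFFrame.unitSec_res] at h1
    have h2 := congrArg (res _ hW) h1
    rw [res_smul, res_res, res_res] at h2
    rw [res_res, res_res]
    exact h2
  · refine idealSect_injective (I.comap g) W ?_
    have hA : ∀ (a : Chart g I) (hl : W ≤ a.V.1) (hl' : i.U.1 ⊓ j.U.1 ≤ a.U.1),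
        idealSect (I.comap g) W (res _ hl a.e') =
          g.appLE (i.U.1 ⊓ j.U.1) W hW (idealSect I (i.U.1 ⊓ j.U.1) (res _ hl' a.e)) := fun a hl hl' => by
      erw [idealSect_map, idealSect_map, a.hf, a.hf']
      rw [← CommRingCat.comp_apply, ← CommRingCat.comp_apply, Scheme.Hom.appLE_map,
        Scheme.Hom.map_appLE]
    rw [idealSect_smul, hA j hj hU₂, hA i hi hU₁, hc, idealSect_smul, map_mul]

end Groth.Agent.PicAlg
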