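import Groth.Agent.EGA4Lib.ZeroLocusDim
import Groth.Agent.HilbPolyX.Section
import Groth.Agent.EulerChar.Curve
import Groth.Agent.CohDev.K0

/-!
# The zero locus of a section of an invertible module on a variety
-/

universe u

open CategoryTheory CategoryTheory.Limits AlgebraicGeometry TopologicalSpace

set_option linter.style.haveILetI false

noncomputable section

namespace Groth.Agent.PicAlg

open Groth.Agent.QCoh Groth.Agent.Props.GenLocus Groth.Agent.PullStalk.Sky

variable (k : Type u) [Field k] {X : Scheme.{u}} [X.Over (Spec (CommRingCat.of k))]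
  [LocallyOfFiniteType (X ↘ Spec (CommRingCat.of k))] [IsIntegral X]

include k in
/-- The locus where a nonzero section does not generate has codimension one. -/
theorem dim_compl_genLocus {L : X.Modules} (hL : PicF.IsInvertible L)
    (s : Coh.structureModule X ⟶ L) (hs : s ≠ 0) {x : X} (hx : x ∉ CohB1.genLocus L s) :
    topologicalKrullDim X ≤
      topologicalKrullDim ↥((CohB1.genLocus L s : Set X)ᶜ) + 1 := by
  haveI : IsLocallyNoetherian X := LocallyOfFiniteType.isLocallyNoetherian (X ↘ Spec (CommRingCat.of k))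
  obtain ⟨U₀, e₀, hxU₀, he₀⟩ := exists_isGen hL x
  obtain ⟨U, hU, hxU, hle⟩ := exists_isAffineOpen_mem_and_subset (X := X) (U := U₀) hxU₀
  have he := he₀.restrict hle
  obtain ⟨f, hf, -⟩ := he.exists_eq le_rfl (sec s U)
  rw [res_self] at hf
  have hloc := genLocus_inf he s hf
  have hη : genericPoint X ∈ U := (genericPoint_specializes x).mem_open U.2 hxU
  have hηg : genericPoint X ∈ CohB1.genLocus L s := by
    by_contra hn
    have hb := (EulerChar.bijective_stalk_generic (LFFrame.isInvertible_structureModule X) hL s hs).2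
    obtain ⟨eL⟩ := EulerChar.stalk_ofRank (ProjTwist.isFinLocFreeOfRank_one hL) (genericPoint X)
    haveI : Module.Finite (X.presheaf.stalk (genericPoint X)) (L.presheaf.stalk (genericPoint X)) :=
      Module.Finite.equiv eL
    have htop : IsLocalRing.maximalIdeal (X.presheaf.stalk (genericPoint X)) •
        (⊤ : Submodule (X.presheaf.stalk (genericPoint X)) (L.presheaf.stalk (genericPoint X))) = ⊤ :=
      eq_top_iff.2 fun m _ => by
        obtain ⟨t, rfl⟩ := hb m
        exact HilbPolyX.stalk_sec_mem s hL hn t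
    have hbot := Submodule.eq_bot_of_le_smul_of_le_jacobson_bot _ _ Module.Finite.fg_top htop.ge
      (IsLocalRing.maximalIdeal_le_jacobson _)
    haveI : Subsingleton (L.presheaf.stalk (genericPoint X)) :=
      (Submodule.subsingleton_iff _).1 (subsingleton_of_bot_eq_top hbot.symm)
    haveI : Subsingleton (Fin 1 → X.presheaf.stalk (genericPoint X)) :=
      eL.injective.subsingleton
    exact one_ne_zero (congrFun (Subsingleton.elim
      (1 : Fin 1 → X.presheaf.stalk (genericPoint X)) 0) 0)
  let g : Γ((U : Scheme.{u}), ⊤) := U.ι.appLE U ⊤ U.ι_preimage_self.ge f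
  letI : (U : Scheme.{u}).Over (Spec (CommRingCat.of k)) := ⟨U.ι ≫ (X ↘ Spec (CommRingCat.of k))⟩
  haveI : LocallyOfFiniteType ((U : Scheme.{u}) ↘ Spec (CommRingCat.of k)) :=
    inferInstanceAs (LocallyOfFiniteType (U.ι ≫ (X ↘ Spec (CommRingCat.of k))))
  haveI : Nonempty U := ⟨⟨x, hxU⟩⟩
  haveI : IsIntegral (U : Scheme.{u}) := inferInstance
  have hzero : ∀ y : (U : Scheme.{u}), y ∈ (U : Scheme.{u}).zeroLocus (U := ⊤) {g} ↔
      U.ι y ∉ CohB1.genLocus L s := fun y => by
    rw [Scheme.zeroLocus_singleton]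
    have hb : U.ι ⁻¹ᵁ X.basicOpen f = (U : Scheme.{u}).basicOpen g := by
      rw [Scheme.basicOpen_appLE, top_inf_eq]
    show ¬ y ∈ (U : Scheme.{u}).basicOpen g ↔ _
    rw [← hb]
    show ¬ U.ι y ∈ X.basicOpen f ↔ _
    rw [← hloc]
    exact not_congr ⟨fun h => h.1, fun h => ⟨h, y.2⟩⟩
  have hint : interior ((U : Scheme.{u}).zeroLocus (U := ⊤) {g}) = ∅ := by
    by_contra hne
    obtain ⟨y, hy⟩ := Set.nonempty_iff_ne_empty.2 hne
    obtain ⟨V, hV, hVo, hyV⟩ := mem_interior.1 hy
    have : genericPoint (U : Scheme.{u}) ∈ V := (genericPoint_specializes y).mem_open hVo hyV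
    have h := (hzero _).1 (hV this)
    rw [genericPoint_eq_of_isOpenImmersion U.ι] at h
    exact h hηg
  have h := (EGA4Lib.ZeroLocusDim.dim_zeroLocus k g hint).2
    ⟨Set.univ, by rw [irreducibleComponents_eq_singleton]; rfl,
      (IsHomeomorph.topologicalKrullDim_eq _ (Homeomorph.Set.univ _).isHomeomorph)⟩
    fun Z hZ _ => by
      rw [irreducibleComponents_eq_singleton, Set.mem_singleton_iff] at hZ
      subst hZ
      exact ⟨⟨x, hxU⟩, trivial, (hzero _).2 hx⟩
  have hdimU : topologicalKrullDim X ≤ topologicalKrullDim (U : Scheme.{u}) := by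
    rw [VarDim.topologicalKrullDim_eq_of_irreducible k (X := X)]
    exact VarDim.le_topologicalKrullDim_opens k U hη le_rfl
  refine hdimU.trans (h.symm.le.trans (add_le_add_left ?_ 1))
  exact Topology.IsInducing.topologicalKrullDim_le
    (f := fun y : ↥((U : Scheme.{u}).zeroLocus (U := ⊤) {g}) =>
      (⟨U.ι y.1, (hzero y.1).1 y.2⟩ : ↥((CohB1.genLocus L s : Set X)ᶜ)))
    ((U.ι.isOpenEmbedding.isInducing.comp Topology.IsInducing.subtypeVal).codRestrict
      fun y => (hzero y.1).1 y.2)

end Groth.Agent.PicAlg
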