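import Groth.Agent.PicAlg.Group
import Groth.Agent.PicAlg.IdealPull
import Groth.Agent.S15990
import Groth.Agent.HilbD.Push
import Groth.Agent.RedSub.Basic
import Groth.Agent.RelDiv.CurveSmooth
import Groth.Agent.FFCurve.PointRR
import Groth.Agent.FFCurve.AlgClosed
import Mathlib.AlgebraicGeometry.AlgClosed.Basic

/-!
# On a smooth curve degree zero means algebraically equivalent to zero
-/

universe u

open CategoryTheory CategoryTheory.Limits AlgebraicGeometry TopologicalSpace FunFld

set_option linter.style.haveILetI false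

noncomputable section

namespace Groth.Agent.PicAlg

open ProjTwist Groth.Agent.FFCurve

variable {k : Type u} [Field k] {X : Scheme.{u}} [X.Over (Spec (CommRingCat.of k))]

theorem isPullback_slice_diagonal (t : Spec (CommRingCat.of k) ⟶ X)
    (ht : t ≫ (X ↘ Spec (CommRingCat.of k)) = 𝟙 _) :
    IsPullback t t (Pic13.sliceAt k X (X ↘ Spec (CommRingCat.of k)) t ht)
      (pullback.diagonal (X ↘ Spec (CommRingCat.of k))) := by
  set f := X ↘ Spec (CommRingCat.of k)
  set σ := Pic13.sliceAt k X f t ht
  have h₁ : σ ≫ pullback.fst f f = 𝟙 X := pullback.lift_fst _ _ _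
  have h₂ : σ ≫ pullback.snd f f = f ≫ t := pullback.lift_snd _ _ _
  have w : t ≫ σ = t ≫ pullback.diagonal f := by
    refine pullback.hom_ext ?_ ?_
    · rw [Category.assoc, Category.assoc, h₁, pullback.diagonal_fst]
    · rw [Category.assoc, Category.assoc, h₂, pullback.diagonal_snd, ← Category.assoc, ht]
      simp
  refine ⟨⟨w⟩, ⟨PullbackCone.IsLimit.mk w (fun s => s.fst ≫ f) (fun s => ?_) (fun s => ?_)
    fun s m hm _ => ?_⟩⟩
  all_goals
    first
    | (rw [← hm, Category.assoc, ht, Category.comp_id])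
    | (have e₁ := congrArg (· ≫ pullback.fst f f) s.condition
       have e₂ := congrArg (· ≫ pullback.snd f f) s.condition
       simp only [Category.assoc, h₁, h₂, pullback.diagonal_fst, pullback.diagonal_snd,
         Category.comp_id] at e₁ e₂
       rw [Category.assoc, e₂]
       try exact e₁.symm)

variable [IsProper (X ↘ Spec (CommRingCat.of k))] [IsAlgClosed k] [IsIntegral X] [RegCurve X]
  [Smooth (X ↘ Spec (CommRingCat.of k))] (hdim : topologicalKrullDim X = 1)

include hdim

/-- `I_x ⊗ I_p⁻¹` is algebraically equivalent to zero. -/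
theorem isAlgEquivZero_point_sub (x p : ZetaLib.ClosedPt X) {J : X.Modules}
    (hJ : PicF.IsInvertible J)
    (e : CohB1.tensorMod (ClSub.idealMod (pointI p)) J ≅ Coh.structureModule X) :
    Pic13.IsAlgEquivZero k X (CohB1.tensorMod J (ClSub.idealMod (pointI x))) := by
  let f := X ↘ Spec (CommRingCat.of k)
  haveI : SmoothOfRelativeDimension 1 f := RelDiv.CurveSmooth.smoothOfRelativeDimension_one hdim
  haveI := smoothOfRelativeDimension_isStableUnderBaseChange (n := 1)
  haveI : SmoothOfRelativeDimension 1 (pullback.snd f f) :=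
    MorphismProperty.pullback_snd (P := @SmoothOfRelativeDimension 1) f f inferInstance
  haveI : IsClosedImmersion (pullback.diagonal f) := inferInstance
  let I := (pullback.diagonal f).ker
  have hI : BlowUp.IsEffCartierIdeal I :=
    (S15990.result (pullback.snd f f) (pullback.diagonal f) (pullback.diagonal_snd f)).1
  let t : ZetaLib.ClosedPt X → (Spec (CommRingCat.of k) ⟶ X) := fun y =>
    pointOfClosedPoint f y.1 y.2
  have ht : ∀ y, t y ≫ f = 𝟙 _ := fun y => pointOfClosedPoint_comp f y.1 y.2
  have hc : ∀ y, I.comap (Pic13.sliceAt k X f (t y) (ht y)) = pointI y := fun y => by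
    rw [HilbD.comap_ker_of_isPullback (isPullback_slice_diagonal (t y) (ht y))]
    haveI : IsClosedImmersion (t y ≫ f) := by rw [ht]; infer_instance
    haveI : IsClosedImmersion (t y) := IsClosedImmersion.of_comp (t y) f
    refine RedSub.ker_eq_vanishingIdeal (t y) ⟨{y.1}, y.2⟩ ?_
    refine Set.eq_singleton_iff_unique_mem.2 ⟨⟨Classical.arbitrary _, pointOfClosedPoint_apply f y.1 y.2 _⟩,
      fun z ⟨w, hw⟩ => hw ▸ pointOfClosedPoint_apply f y.1 y.2 w⟩
  let M : (Pic13.prodK k X f).Modules :=
    CohB1.tensorMod ((Scheme.Modules.pullback (pullback.fst f f)).obj J) (ClSub.idealMod I)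
  have hfib : ∀ y, Nonempty (Pic13.fibreMod k X f (t y) (ht y) M ≅
      CohB1.tensorMod J (ClSub.idealMod (pointI y))) := fun y => by
    obtain ⟨φ⟩ := EulerFam.nonempty_slice_iso f (t y) (ht y) J (ClSub.idealMod I)
    obtain ⟨ψ⟩ := nonempty_pullback_idealMod (Pic13.sliceAt k X f (t y) (ht y)) I hI
      (IdealSh.IdealMod.isEffCartierIdeal_of_isInvertible _
        (by rw [hc y]; exact isInvertible_pointI k hdim y))
    exact ⟨φ ≪≫ tensCongr (Iso.refl J) (ψ ≪≫ eqToIso (by rw [hc y]))⟩
  obtain ⟨a⟩ := hfib x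
  obtain ⟨a₀⟩ := hfib p
  haveI : ConnectedSpace X := inferInstance
  exact ⟨X, f, inferInstance, inferInstance, inferInstance, M,
    AmpleLib.isInvertible_tensorMod (PicCl.isInvertible_pullback _ hJ)
      (IdealSh.IdealMod.isInvertible_of_isEffCartierIdeal _ hI),
    t x, t p, ht x, ht p, ⟨a⟩, ⟨a₀ ≪≫ tensComm _ _ ≪≫ e⟩⟩

/-- Degree zero implies algebraically equivalent to zero. -/
theorem isAlgEquivZero_of_deg_zero {L : X.Modules} (hL : PicF.IsInvertible L)
    (hdeg : Curv2.deg k X L 1 = 0) : Pic13.IsAlgEquivZero k X L := by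
  classical
  have hK := isFunctionField_of_isAlgClosed (X := X) k hdim
  let S : AddSubgroup (Divisor k X.functionField) :=
    { carrier := {D | ∃ (N : X.Modules) (hN : PicF.IsInvertible N),
        Pic13.IsAlgEquivZero k X N ∧ DivEq k (divOf k hdim hN) D}
      zero_mem' := ⟨_, _, isAlgEquivZero_one, divEq_structureModule k hdim⟩
      add_mem' := by
        rintro D E ⟨N, hN, hNa, hND⟩ ⟨N', hN', hNa', hNE⟩
        exact ⟨_, AmpleLib.isInvertible_tensorMod hN hN', isAlgEquivZero_tens hNa hNa',
          DivEq.trans' k hdim (divEq_tensor k hdim hN hN') (DivEq.add' k hdim hND hNE)⟩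
      neg_mem' := by
        rintro D ⟨N, hN, hNa, hND⟩
        obtain ⟨N', hN', ⟨g⟩⟩ := PicLaw.exists_inverse hN
        refine ⟨N', hN', isAlgEquivZero_inverse hNa hN g, ?_⟩
        obtain ⟨z, hz, h1⟩ := DivEq.trans' k hdim
          (DivEq.symm' k hdim (divEq_tensor k hdim hN hN'))
          (DivEq.trans' k hdim
            (DivEq.symm' k hdim (divEq_iso k hdim (AmpleLib.isInvertible_tensorMod hN hN')
              (LFFrame.isInvertible_structureModule X) g))
            (divEq_structureModule k hdim))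
        obtain ⟨w, hw, h2⟩ := DivEq.symm' k hdim hND
        refine ⟨z * w, mul_ne_zero hz hw, ?_⟩
        rw [FF.div_mul (isFF k hdim) hz hw, h2]
        rw [zero_add] at h1
        rw [← h1]
        abel }
  obtain ⟨p₀⟩ : Nonempty (ZetaLib.ClosedPt X) := by
    haveI : CompactSpace X := QuasiCompact.compactSpace_of_compactSpace (X ↘ Spec (CommRingCat.of k))
    obtain ⟨y, -, hy⟩ := (isClosed_univ (X := X)).exists_closed_singleton Set.univ_nonempty
    exact ⟨⟨y, hy⟩⟩
  let P₀ := toPlace k hdim p₀
  obtain ⟨J, hJ, ⟨e⟩⟩ := PicLaw.exists_inverse (isInvertible_pointI k hdim p₀)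
  have hJd : DivEq k (divOf k hdim hJ) (Finsupp.single P₀ 1) :=
    divEq_of_isInverseOf_pointI k hdim p₀ hJ ⟨tensComm _ _ ≪≫ e⟩
  have hgen : ∀ P : Place k X.functionField, Finsupp.single P 1 - Finsupp.single P₀ 1 ∈ S := fun P => by
    obtain ⟨x, rfl⟩ : ∃ x, toPlace k hdim x = P :=
      ⟨(placeEquiv k hdim).symm P, (placeEquiv k hdim).apply_symm_apply P⟩
    rw [← neg_mem_iff]
    refine ⟨_, AmpleLib.isInvertible_tensorMod hJ (isInvertible_pointI k hdim x),
      isAlgEquivZero_point_sub hdim x p₀ hJ e,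
      DivEq.trans' k hdim (divEq_tensor k hdim hJ (isInvertible_pointI k hdim x)) ?_⟩
    have h := DivEq.add' k hdim hJd (divEq_pointI k hdim x)
    rwa [← sub_eq_add_neg, ← neg_sub] at h
  have hall : ∀ D : Divisor k X.functionField, D - D.deg • Finsupp.single P₀ 1 ∈ S := fun D => by
    induction D using Finsupp.induction_linear with
    | zero => simp [Divisor.deg]
    | add D E hD hE =>
      have h : D + E - Divisor.deg (D + E) • Finsupp.single P₀ 1 =
          (D - Divisor.deg D • Finsupp.single P₀ 1) + (E - Divisor.deg E • Finsupp.single P₀ 1) := by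
        rw [FF.deg_add, add_smul]; abel
      rw [h]; exact S.add_mem hD hE
    | single P n =>
      have h : Finsupp.single P n - Divisor.deg (Finsupp.single P n) •
          Finsupp.single P₀ 1 = n • (Finsupp.single P 1 - Finsupp.single P₀ 1) := by
        rw [FF.deg_single, FF.deg_eq_one hK P, Nat.cast_one, mul_one, smul_sub,
          Finsupp.smul_single, Finsupp.smul_single, smul_eq_mul, mul_one]
      rw [h]; exact S.zsmul_mem (hgen P) n
  obtain ⟨N, hN, hNa, hND⟩ := hall (divOf k hdim hL)
  rw [← deg_eq k hdim hK hL, hdeg, zero_smul, sub_zero] at hND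
  obtain ⟨a, ha, h⟩ := hND
  obtain ⟨φ⟩ := nonempty_iso_of_div k hdim hN hL ha (by rw [h, add_sub_cancel_right])
  exact EulerFam.isAlgEquivZero_of_iso φ hNa

end Groth.Agent.PicAlg
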